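import Groth.Agent.AmpleThLib.Pow
import Groth.Agent.VertIntLib.Pic
import Groth.Agent.VertChiLib.Fibre
import Groth.Agent.QCohLib.QcqsSections

/-!
# Dividing sections of invertible modules by a uniformizer
-/

set_option autoImplicit false
set_option backward.isDefEq.respectTransparency false
set_option backward.isDefEq.respectTransparency.types false
set_option linter.style.haveILetI false
set_option linter.unusedSectionVars false
set_option maxHeartbeats 1000000
universe u
open AlgebraicGeometry CategoryTheory CategoryTheory.Limits TopologicalSpace IsLocalRing Opposite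
open AmpleLib (GenOn res)
open TwistLib (genSet)
open VertIntLib (gρ)

noncomputable section

namespace NodalTrivLib

/-- Membership in a principal ideal of an affine open is local. -/
theorem mem_span_of_germ {X : Scheme.{u}} {W : X.Opens} (hW : IsAffineOpen W) (a c : Γ(X, W))
    (h : ∀ (x : X) (hx : x ∈ W),
      X.presheaf.germ W x hx c ∈ Ideal.span {X.presheaf.germ W x hx a}) : c ∈ Ideal.span {a} := by
  refine Ideal.mem_of_localization_maximal fun P hP => ?_
  let y : PrimeSpectrum Γ(X, W) := ⟨P, hP.isPrime⟩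
  let x := hW.fromSpec y
  have hx : x ∈ W := hW.range_fromSpec.le ⟨y, rfl⟩
  letI := TopCat.Presheaf.algebra_section_stalk X.presheaf (⟨x, hx⟩ : W)
  haveI : IsLocalization.AtPrime (X.presheaf.stalk x) P := hW.isLocalization_stalk' y hx
  let e := IsLocalization.algEquiv P.primeCompl (X.presheaf.stalk x) (Localization.AtPrime P)
  rw [Ideal.map_span, Set.image_singleton, Ideal.mem_span_singleton]
  obtain ⟨d, hd⟩ := Ideal.mem_span_singleton.1 (h x hx)
  refine ⟨e d, ?_⟩
  rw [← e.commutes c, ← e.commutes a, ← map_mul]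
  exact congrArg e hd

variable {R : Type u} [CommRing R] [IsDomain R] {X : Scheme.{u}} (f : X ⟶ Spec (CommRingCat.of R))

/-- The image of a scalar in the sections over an open. -/
abbrev pW (r : R) (W : X.Opens) : Γ(X, W) := X.presheaf.map (homOfLE (le_top : W ≤ ⊤)).op (gρ f r)

theorem pW_res (r : R) {V W : X.Opens} (h : V ≤ W) : X.presheaf.map (homOfLE h).op (pW f r W) = pW f r V := by
  rw [pW, pW, ← CommRingCat.comp_apply, ← Functor.map_comp]
  rfl

/-- A nonzero scalar is a nonzerodivisor on the sections over an affine open of a flat scheme. -/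
theorem regular_pW [Flat f] {W : X.Opens} (hW : IsAffineOpen W) {r : R} (hr : r ≠ 0) :
    IsSMulRegular Γ(X, W) (pW f r W) := by
  let φ : R →+* Γ(X, W) := ((X.presheaf.map (homOfLE (le_top : W ≤ ⊤)).op).hom).comp (gρ f)
  have hflat : φ.Flat := by
    have h1 := Flat.flat_appLE f (isAffineOpen_top (Spec (CommRingCat.of R))) hW (fun _ _ => trivial)
    have h2 : φ = ((f.appLE ⊤ W fun _ _ => trivial).hom).comp
        (Scheme.ΓSpecIso (CommRingCat.of R)).inv.hom := rfl
    rw [h2]
    refine RingHom.Flat.comp (RingHom.Flat.of_bijective ?_) h1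
    exact (Scheme.ΓSpecIso (CommRingCat.of R)).symm.commRingCatIsoToRingEquiv.bijective
  algebraize [φ]
  have h3 := IsSMulRegular.of_flat (R := R) (S := Γ(X, W)) (x := r) fun a b h => mul_left_cancel₀ hr h
  exact h3

/-- A section which vanishes on the closed fibre to first order is a multiple of the uniformizer. -/
theorem exists_div [Flat f] [X.IsSeparated] {M : X.Modules} (hM : PicF.IsInvertible M) {r : R} (hr : r ≠ 0)
    (t : Γ(M, ⊤)) (h : ∀ (W : X.Opens) (e : Γ(M, W)) (c : Γ(X, W)), IsAffineOpen W → GenOn M e →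
      c • e = res M (le_top : W ≤ ⊤) t → c ∈ Ideal.span {pW f r W}) :
    ∃ t' : Γ(M, ⊤), gρ f r • t' = t := by
  have hloc : ∀ x : X, ∃ (W : X.Opens) (e : Γ(M, W)), x ∈ W ∧ IsAffineOpen W ∧ GenOn M e := fun x => by
    obtain ⟨U, e, hxU, he⟩ := TwistLib.exists_genOn hM x
    obtain ⟨W, hW, hxW, hWU⟩ := exists_isAffineOpen_mem_and_subset hxU
    exact ⟨W, res M (show W ≤ U from hWU) e, hxW, hW, he.res _⟩
  choose W e hxW hW he using hloc
  choose c hc using fun x => AmpleThLib.exists_coeff t (he x)
  choose d hd using fun x => Ideal.mem_span_singleton'.1 (h (W x) (e x) (c x) (hW x) (he x) (hc x))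
  let s : ∀ x, Γ(M, W x) := fun x => d x • e x
  have hs : ∀ x, pW f r (W x) • s x = res M (le_top : W x ≤ ⊤) t := fun x => by
    simp only [s]
    rw [smul_smul, mul_comm, hd x, hc x]
  have hcompat : TopCat.Presheaf.IsCompatible (⟨M.presheaf, M.isSheaf⟩ : TopCat.Sheaf Ab X).1 W s := by
    intro x y
    have hxy : IsAffineOpen (W x ⊓ W y) := (hW x).inf (hW y)
    have hg := (he x).res (inf_le_left : W x ⊓ W y ≤ W x)
    obtain ⟨a, ha⟩ := (hg (W x ⊓ W y) le_rfl).2 (res M (inf_le_left : W x ⊓ W y ≤ W x) (s x))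
    obtain ⟨b, hb⟩ := (hg (W x ⊓ W y) le_rfl).2 (res M (inf_le_right : W x ⊓ W y ≤ W y) (s y))
    simp only [AmpleLib.res_refl] at ha hb
    show res M inf_le_left (s x) = res M inf_le_right (s y)
    rw [← ha, ← hb]
    have key : pW f r (W x ⊓ W y) * a = pW f r (W x ⊓ W y) * b := by
      apply (hg (W x ⊓ W y) le_rfl).1
      simp only [AmpleLib.res_refl, mul_smul, ha, hb]
      rw [← pW_res f r (inf_le_left : W x ⊓ W y ≤ W x), ← AmpleLib.res_smul, hs, AmpleLib.res_res,
        pW_res f r (inf_le_left : W x ⊓ W y ≤ W x), ← pW_res f r (inf_le_right : W x ⊓ W y ≤ W y),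
        ← AmpleLib.res_smul, hs, AmpleLib.res_res]
    rw [show a = b from regular_pW f hxy hr key]
  obtain ⟨t', ht', -⟩ := TopCat.Sheaf.existsUnique_gluing' (⟨M.presheaf, M.isSheaf⟩ : TopCat.Sheaf Ab X) W ⊤
    (fun x => homOfLE le_top) (fun x _ => TopologicalSpace.Opens.mem_iSup.2 ⟨x, hxW x⟩) s hcompat
  refine ⟨t', TwistLib.mod_ext M fun x hx => ?_⟩
  have h1 : res M (le_top : W x ≤ ⊤) (gρ f r • t') = res M (le_top : W x ≤ ⊤) t := by
    rw [AmpleLib.res_smul, show res M (le_top : W x ≤ ⊤) t' = s x from ht' x]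
    exact hs x
  have h2 := congrArg (M.presheaf.germ (W x) x (hxW x)) h1
  rw [AmpleLib.germ_res, AmpleLib.germ_res] at h2
  exact h2

end NodalTrivLib

end
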