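import Groth.Agent.NodalTrivLib.Divide
import Groth.Agent.VertIntLib.Degree
import Groth.Agent.CurveAmpLib.Affine
import Groth.Agent.DegPullLib.H0

/-!
# Generically trivial invertible modules of degree zero on the components of a reduced closed fibre
-/

set_option autoImplicit false
set_option backward.isDefEq.respectTransparency false
set_option backward.isDefEq.respectTransparency.types false
set_option linter.style.haveILetI false
set_option linter.unusedSectionVars false
set_option maxHeartbeats 2000000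
universe u
open AlgebraicGeometry CategoryTheory CategoryTheory.Limits TopologicalSpace IsLocalRing Opposite
open AmpleLib (GenOn res)
open TwistLib (genSet)
open VertIntLib (gρ)
open KFlatLib (pb)

noncomputable section

namespace NodalTrivLib

variable {R : Type u} [CommRing R] [IsDomain R] [IsDiscreteValuationRing R]
  {X : Over (Spec (CommRingCat.of R))}

local notation "κ" => IsLocalRing.ResidueField R

/-- The closed fibre. -/
abbrev vR (R : Type u) [CommRing R] [IsLocalRing R] :
    Spec (CommRingCat.of (IsLocalRing.ResidueField R)) ⟶ Spec (CommRingCat.of R) :=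
  Spec.map (CommRingCat.ofHom (residue R))

theorem ker_fibre : (pullback.fst X.hom (vR R)).ker = Models.specialFibreIdeal R X := by
  haveI : IsClosedImmersion (vR R) := IsClosedImmersion.spec_of_surjective _ residue_surjective
  rw [← VertChiLib.comap_ker, VertChiLib.ker_specMap, IsLocalRing.ker_residue]
  rfl

theorem over_fibre (a : ↥(pullback X.hom (vR R))) : X.hom (pullback.fst X.hom (vR R) a) = closedPoint R := by
  rw [← Scheme.Hom.comp_apply, pullback.condition, Scheme.Hom.comp_apply,
    Subsingleton.elim (α := PrimeSpectrum κ) ((pullback.snd X.hom (vR R)) a) (closedPoint κ)]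
  exact IsLocalRing.comap_closedPoint (residue R)

/-- On a reduced closed fibre, a function vanishing at all its points is a multiple of the uniformizer. -/
theorem mem_span_of_vanish [IsReduced (pullback X.hom (vR R))] {ϖ : R} (hϖ : maximalIdeal R = Ideal.span {ϖ})
    {W : X.left.Opens} (hW : IsAffineOpen W) (c : Γ(X.left, W))
    (h : ∀ x ∈ W, X.hom x = closedPoint R → x ∉ X.left.basicOpen c) : c ∈ Ideal.span {pW X.hom ϖ W} := by
  haveI : IsClosedImmersion (vR R) := IsClosedImmersion.spec_of_surjective _ residue_surjective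
  let ι := pullback.fst X.hom (vR R)
  haveI : IsClosedImmersion ι := inferInstanceAs (IsClosedImmersion (pullback.fst X.hom (vR R)))
  have h0 : ι.app W c = 0 := by
    refine eq_zero_of_basicOpen_eq_bot _ ?_
    rw [← Scheme.preimage_basicOpen ι c, eq_bot_iff]
    intro a ha
    exact (h (ι a) (Scheme.basicOpen_le _ _ ha) (over_fibre a) ha).elim
  have hc : c ∈ ι.ker.ideal ⟨W, hW⟩ := by
    rw [Scheme.Hom.ker_apply]
    exact h0
  refine mem_span_of_germ hW _ c fun x hx => ?_
  have h2 := Ideal.mem_map_of_mem (X.left.presheaf.germ W x hx).hom hc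
  rw [← SDivLib.stalkIdeal_eq ι.ker ⟨W, hW⟩ hx, show ι.ker = Models.specialFibreIdeal R X from ker_fibre,
    VertIntLib.stalkIdeal_fibre x hϖ] at h2
  rw [pW, TopCat.Presheaf.germ_res_apply]
  exact h2

/-- A generically trivial invertible module has a section generating the generic fibre which is nonzero on the
closed fibre. -/
theorem exists_good_section [Flat X.hom] [IsProper X.hom] [IsReduced (pullback X.hom (vR R))]
    [Nonempty ↥(pullback X.hom (vR R))] {M : X.left.Modules} (hM : PicF.IsInvertible M)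
    (hgen : Nonempty ((Scheme.Modules.pullback (pullback.fst X.hom (Neron.genPt R))).obj M ≅
      Coh.structureModule (pullback X.hom (Neron.genPt R)))) :
    ∃ t : Γ(M, ⊤), (∀ x, X.hom x ≠ closedPoint R → x ∈ genSet hM t) ∧
      ∃ z, X.hom z = closedPoint R ∧ z ∈ genSet hM t := by
  classical
  obtain ⟨ϖ, hϖ'⟩ := IsDiscreteValuationRing.exists_irreducible R
  have hϖ : maximalIdeal R = Ideal.span {ϖ} := hϖ'.maximalIdeal_eq
  haveI : IsLocallyNoetherian X.left := LocallyOfFiniteType.isLocallyNoetherian X.hom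
  haveI : CompactSpace X.left := QuasiCompact.compactSpace_of_compactSpace X.hom
  haveI : IsNoetherian X.left := ⟨⟩
  haveI : X.left.IsSeparated := ⟨by
    rw [← terminal.comp_from X.hom]
    infer_instance⟩
  haveI : Coh.IsQCoh M := (CurvLib.isCoh_of_isInvertible hM).1
  set π : Γ(X.left, ⊤) := gρ X.hom ϖ
  have hmem : ∀ x : X.left, x ∈ X.left.basicOpen π ↔ X.hom x ≠ closedPoint R := fun x => by
    rw [Scheme.mem_basicOpen_top]
    show IsUnit (Models.stalkHom R X x ϖ) ↔ _
    rw [← not_iff_not, ← mem_nonunits_iff, ← IsLocalRing.mem_maximalIdeal, not_not,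
      VertIntLib.pi_mem_iff x ⟨maximalIdeal _, inferInstance⟩ hϖ,
      show EquidimLib.stalkPt x ⟨maximalIdeal _, inferInstance⟩ = x from Scheme.fromSpecStalk_closedPoint]
  -- the generic fibre is open
  haveI : IsOpenImmersion (Neron.genPt R) := Groth.Agent.S3250.isOpenImmersion_genPt R
  let g := pullback.fst X.hom (Neron.genPt R)
  haveI : IsOpenImmersion g := inferInstanceAs (IsOpenImmersion (pullback.fst X.hom (Neron.genPt R)))
  let U : X.left.Opens := g ''ᵁ ⊤
  have hU : ∀ x : X.left, X.hom x ≠ closedPoint R → x ∈ U := fun x hx => by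
    show x ∈ g ''ᵁ (⊤ : (pullback X.hom (Neron.genPt R)).Opens)
    rw [Scheme.Hom.image_top_eq_opensRange]
    show x ∈ Set.range g
    rw [show Set.range g = X.hom ⁻¹' Set.range (Neron.genPt R) from Scheme.Pullback.range_fst ..]
    refine ⟨closedPoint (FractionRing R), ?_⟩
    have hne : Neron.genPt R (closedPoint (FractionRing R)) ≠ closedPoint R := fun h => by
      refine IsDiscreteValuationRing.not_a_field R ((congrArg PrimeSpectrum.asIdeal h).symm.trans ?_)
      show (maximalIdeal (FractionRing R)).comap (algebraMap R (FractionRing R)) = ⊥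
      rw [maximalIdeal_eq_bot, ← RingHom.ker_eq_comap_bot,
        (RingHom.injective_iff_ker_eq_bot _).1 (IsFractionRing.injective R (FractionRing R))]
    rw [(VertIntLib.eta_or_closedPoint (X.hom x)).resolve_right hx,
      (VertIntLib.eta_or_closedPoint (Neron.genPt R (closedPoint (FractionRing R)))).resolve_right hne]
  obtain ⟨e⟩ := hgen
  let er : M.restrict g ≅ Coh.structureModule (pullback X.hom (Neron.genPt R)) :=
    (Scheme.Modules.restrictFunctorIsoPullback g).app M ≪≫ e
  set s₀ : Γ(M.restrict g, ⊤) := er.inv.app ⊤ (1 : Γ(pullback X.hom (Neron.genPt R), ⊤))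
  have hs₀ : GenOn (M.restrict g) s₀ := DescAppLib.genOn_app_iso er.symm DescAppLib.one_genOn'
  set sU : Γ(M, U) := M.presheaf.map (eqToHom (rfl : U = g ''ᵁ ⊤)).op s₀
  have hsU : GenOn M sU := VertIntLib.genOn_of_restrict g rfl hs₀
  set D : X.left.Opens := ⊤ ⊓ X.left.basicOpen π
  have hDU : D ≤ U := fun x hx => hU x ((hmem x).1 hx.2)
  obtain ⟨k, t₀, ht₀⟩ := QCohLib.exists_pow_smul_extend (M := M) (W := ⊤) isQuasiSeparated_univ π ⊤
    isCompact_univ le_rfl (res M hDU sU)
  let G : Γ(M, ⊤) → Prop := fun t => ∀ x, X.hom x ≠ closedPoint R → x ∈ genSet hM t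
  have hG₀ : G t₀ := fun x hx => by
    have hxD : x ∈ D := ⟨trivial, (hmem x).2 hx⟩
    have hu : IsUnit ((X.left.presheaf.map (homOfLE (le_top : D ≤ ⊤)).op π) ^ k) :=
      (RingedSpace.isUnit_of_isUnit_germ _ _ _ fun y hy => by
        rw [TopCat.Presheaf.germ_res_apply]
        exact (Scheme.mem_basicOpen_top _ _ y).1 hy.2).pow k
    have hg2 : GenOn M (res M (le_top : D ≤ ⊤) t₀) := by
      rw [show res M (le_top : D ≤ ⊤) t₀ = _ from ht₀]
      exact VertIntLib.genOn_smul_unit hu (hsU.res hDU)
    exact VertIntLib.genSet_of_res hM t₀ hg2 hxD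
  by_contra hcon
  push Not at hcon
  have hdiv : ∀ t, G t → ∃ t', π • t' = t ∧ G t' := fun t ht => by
    obtain ⟨t', ht'⟩ := exists_div X.hom hM hϖ'.ne_zero t fun W e c hW he hc =>
      mem_span_of_vanish hϖ hW c fun x hxW hx hxc => by
        refine hcon t ht x hx ?_
        exact ((AmpleThLib.mem_genSet_coeff hM t he hc).ge hxc).1
    refine ⟨t', ht', fun x hx => ?_⟩
    obtain ⟨W, e, hxW, he⟩ := TwistLib.exists_genOn hM x
    obtain ⟨c, hc⟩ := AmpleThLib.exists_coeff t' he
    have hc2 : (X.left.presheaf.map (homOfLE (le_top : W ≤ ⊤)).op π * c) • e = res M (le_top : W ≤ ⊤) t := by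
      rw [mul_smul, hc, ← AmpleLib.res_smul, ht']
    have h1 : x ∈ X.left.basicOpen c := by
      have h2 := (AmpleThLib.mem_genSet_coeff hM t he hc2).le ⟨ht x hx, hxW⟩
      rw [Scheme.basicOpen_mul] at h2
      exact h2.2
    exact ((AmpleThLib.mem_genSet_coeff hM t' he hc).ge h1).1
  have hall : ∀ j : ℕ, ∃ t, π ^ j • t = t₀ ∧ G t := by
    intro j
    induction j with
    | zero => exact ⟨t₀, by rw [pow_zero, one_smul], hG₀⟩
    | succ j ih =>
      obtain ⟨t, h1, h2⟩ := ih
      obtain ⟨t', h3, h4⟩ := hdiv t h2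
      exact ⟨t', by rw [pow_succ, mul_smul, h3, h1], h4⟩
  -- Krull intersection
  obtain ⟨a⟩ := ‹Nonempty ↥(pullback X.hom (vR R))›
  set z := pullback.fst X.hom (vR R) a
  have hz : X.hom z = closedPoint R := over_fibre a
  obtain ⟨W, e, hzW, he⟩ := TwistLib.exists_genOn hM z
  obtain ⟨c, hc⟩ := AmpleThLib.exists_coeff t₀ he
  have hgz : X.left.presheaf.germ W z hzW c = 0 := by
    rw [← Ideal.mem_bot, ← Ideal.iInf_pow_eq_bot_of_isLocalRing (R := X.left.presheaf.stalk z)
      (maximalIdeal _) (maximalIdeal.isMaximal _).ne_top, Submodule.mem_iInf]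
    intro j
    obtain ⟨t, ht, -⟩ := hall j
    obtain ⟨d, hd⟩ := AmpleThLib.exists_coeff t he
    have hcd : c = (X.left.presheaf.map (homOfLE (le_top : W ≤ ⊤)).op π) ^ j * d := by
      apply (he W le_rfl).1
      simp only [AmpleLib.res_refl]
      rw [hc, mul_smul, hd, ← map_pow, ← AmpleLib.res_smul, ht]
    rw [hcd, map_mul, map_pow]
    refine Ideal.mul_mem_right _ _ (Ideal.pow_mem_pow ?_ j)
    rw [TopCat.Presheaf.germ_res_apply, IsLocalRing.mem_maximalIdeal, mem_nonunits_iff]
    exact fun hu => (hmem z).1 ((Scheme.mem_basicOpen_top _ _ z).2 hu) hz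
  obtain ⟨z', hz', hz'e⟩ := Flat.generalizingMap X.hom (RelMinSmLib.eta_specializes (R := R) (X.hom z))
  have hz'W : z' ∈ W := hz'.mem_open W.isOpen hzW
  have hz'G : z' ∈ genSet hM t₀ := hG₀ z' (by rw [hz'e]; exact VertIntLib.eta_ne_closedPoint)
  have h5 := (AmpleThLib.mem_genSet_coeff hM t₀ he hc).le ⟨hz'G, hz'W⟩
  rw [Scheme.mem_basicOpen _ _ z' hz'W, ← TopCat.Presheaf.germ_stalkSpecializes _ hzW hz', CommRingCat.comp_apply,
    hgz, map_zero] at h5
  exact not_isUnit_zero h5

/-- A generically trivial invertible module of degree zero on all components of a reduced connected closed fibre is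
trivial. -/
theorem nonempty_trivial [Flat X.hom] [IsProper X.hom] [IsReduced (pullback X.hom (vR R))]
    [ConnectedSpace ↥(pullback X.hom (vR R))]
    (hdim : ∀ C ∈ irreducibleComponents ↥(pullback X.hom (vR R)), topologicalKrullDim C = 1)
    {M : X.left.Modules} (hM : PicF.IsInvertible M)
    (hgen : Nonempty ((Scheme.Modules.pullback (pullback.fst X.hom (Neron.genPt R))).obj M ≅
      Coh.structureModule (pullback X.hom (Neron.genPt R))))
    (hdeg : ∀ Γ : ArSurf.VertComp R X, ArSurf.inter R X M Γ ≤ 0) :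
    Nonempty (M ≅ Coh.structureModule X.left) := by
  haveI : IsClosedImmersion (vR R) := IsClosedImmersion.spec_of_surjective _ residue_surjective
  let Z := pullback X.hom (vR R)
  let ι : Z ⟶ X.left := pullback.fst X.hom (vR R)
  let q : Z ⟶ Spec (CommRingCat.of κ) := pullback.snd X.hom (vR R)
  haveI : IsClosedImmersion ι := inferInstanceAs (IsClosedImmersion (pullback.fst X.hom (vR R)))
  letI : Z.Over (Spec (CommRingCat.of κ)) := ⟨q⟩
  haveI : IsProper (Z ↘ Spec (CommRingCat.of κ)) := inferInstanceAs (IsProper q)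
  haveI : IsNoetherian Z := CurvLib.isNoetherian κ (X := Z)
  obtain ⟨t, ht, z, hz, hzt⟩ := exists_good_section hM hgen
  let G : Z.Opens := ι ⁻¹ᵁ genSet hM t
  have hdich : ∀ C ∈ irreducibleComponents (Z : Type u), C ⊆ G ∨ C ⊆ (G : Set Z)ᶜ := by
    intro C hC
    by_contra hcon
    rw [not_or] at hcon
    let J := Scheme.IdealSheafData.vanishingIdeal ⟨C, isClosed_of_mem_irreducibleComponents C hC⟩
    have hr : Set.range J.subschemeι = C :=
      J.range_subschemeι.trans (Scheme.IdealSheafData.coe_support_vanishingIdeal _)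
    haveI : IsIntegral J.subscheme := AmpleDevLib.isIntegral_vanishingIdeal _ hC.1
    have hd1 : topologicalKrullDim J.subscheme = 1 :=
      (J.subschemeι.isEmbedding.toHomeomorph.trans (Homeomorph.setCongr hr)).isHomeomorph.topologicalKrullDim_eq.trans
        (hdim C hC)
    let Γ : ArSurf.VertComp R X := ⟨Over.mk (J.subschemeι ≫ q), J.subschemeι ≫ ι, inferInstance,
      ‹IsIntegral J.subscheme›, hd1, by simp [ι, q, pullback.condition]⟩
    haveI := VertIntLib.isProper_curve Γ
    haveI : IsIntegral Γ.curve.left := Γ.isIntegral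
    refine absurd (hdeg Γ) (not_le.mpr ?_)
    rw [VertIntLib.inter_eq_deg]
    refine CurveAmpLib.deg_pos_of_section κ Γ.dim_eq (AmpleDevLib.isInvertible_pb Γ.ι hM)
      (KFlatLib.puSec Γ.ι t) ?_ ?_
    · rw [AmpleDevLib.genSet_puSec Γ.ι hM t]
      obtain ⟨x, hxC, hxG⟩ := Set.not_subset.mp hcon.2
      obtain ⟨w, rfl⟩ := hr.ge hxC
      exact ⟨w, not_not.mp hxG⟩
    · rw [AmpleDevLib.genSet_puSec Γ.ι hM t]
      intro htop
      obtain ⟨x, hxC, hxG⟩ := Set.not_subset.mp hcon.1
      obtain ⟨w, rfl⟩ := hr.ge hxC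
      exact hxG (show w ∈ Γ.ι ⁻¹ᵁ genSet hM t from htop ▸ trivial)
  have hclopen : IsClopen (G : Set Z) := by
    refine ⟨?_, G.2⟩
    have : (G : Set Z) = ⋃ C ∈ {C ∈ irreducibleComponents (Z : Type u) | C ⊆ G}, C := by
      refine Set.Subset.antisymm (fun x hx => ?_) (Set.iUnion₂_subset fun C hC => hC.2)
      exact Set.mem_iUnion₂.mpr ⟨irreducibleComponent x, ⟨irreducibleComponent_mem_irreducibleComponents x,
        (hdich _ (irreducibleComponent_mem_irreducibleComponents x)).resolve_right
          fun h => h mem_irreducibleComponent hx⟩, mem_irreducibleComponent⟩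
    rw [this]
    exact (TopologicalSpace.NoetherianSpace.finite_irreducibleComponents.subset fun C hC => hC.1).isClosed_biUnion
      fun C hC => isClosed_of_mem_irreducibleComponents C hC.1
  have hrange : ∀ x : X.left, X.hom x = closedPoint R → ∃ a, ι a = x := fun x hx => by
    show x ∈ Set.range ι
    rw [show Set.range ι = X.hom ⁻¹' Set.range (vR R) from Scheme.Pullback.range_fst ..]
    exact ⟨closedPoint κ, (IsLocalRing.comap_closedPoint (residue R)).trans hx.symm⟩
  obtain ⟨a, rfl⟩ := hrange z hz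
  have htop : (G : Set Z) = Set.univ := (isClopen_iff.mp hclopen).resolve_left fun h0 =>
    (Set.eq_empty_iff_forall_notMem.1 h0) a hzt
  have hall : genSet hM t = ⊤ := top_unique fun x _ => by
    by_cases hx : X.hom x = closedPoint R
    · obtain ⟨b, rfl⟩ := hrange x hx
      exact htop.ge (Set.mem_univ b)
    · exact ht x hx
  haveI := AmpleLib.isIso_unitHom t (by
    have h1 := TwistLib.genSet_genOn hM t
    rw [hall] at h1
    rwa [AmpleLib.res_refl] at h1)
  exact ⟨(asIso (QCohLib.unitHom M t)).symm⟩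

end NodalTrivLib

end
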